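import Mathlib

set_option autoImplicit false

/-!
# S4125-[ARITH]: 2-adic arithmetic
-/

namespace Cfsg.Agent.Lib.Helper36.QBaer

theorem geom_mod_two (q : ℕ) (hq : q % 2 = 1) (n : ℕ) :
    (∑ i ∈ Finset.range n, q ^ i) % 2 = n % 2 := by
  induction n with
  | zero => simp
  | succ n ih =>
    rw [Finset.sum_range_succ, Nat.add_mod, ih, Nat.pow_mod, hq, one_pow]
    omega

theorem two_mul_le_of_dvd_ne {a b : ℕ} (h : a ∣ b) (hb : 0 < b) (hne : a ≠ b) : 2 * a ≤ b := by
  obtain ⟨c, rfl⟩ := h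
  have hc0 : c ≠ 0 := by
    rintro rfl
    simp at hb
  have hc1 : c ≠ 1 := by
    rintro rfl
    simp at hne
  have : 2 ≤ c := by omega
  calc 2 * a = a * 2 := by ring
    _ ≤ a * c := Nat.mul_le_mul_left _ this

theorem mul_sq_le_pow (q : ℕ) (hq : 3 ≤ q) (k : ℕ) (hk : 3 ≤ k) : k * q ^ 2 ≤ q ^ k := by
  induction k, hk using Nat.le_induction with
  | base =>
    calc 3 * q ^ 2 ≤ q * q ^ 2 := Nat.mul_le_mul_right _ hq
      _ = q ^ 3 := by ring
  | succ k hk ih =>
    calc (k + 1) * q ^ 2 ≤ 3 * (k * q ^ 2) := by nlinarith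
      _ ≤ q * q ^ k := Nat.mul_le_mul hq ih
      _ = q ^ (k + 1) := by ring

/-- [ARITH] -/
theorem arith (q n e : ℕ) (hq : q.Prime) (hq2 : q ≠ 2) (hn : 0 < n)
    (h1 : q ^ ((n + 1) / 2) + 1 ≤ 2 ^ e) (h2 : 2 ^ e ∣ q ^ n - 1) :
    n = 2 ∨ (q = 3 ∧ n = 4 ∧ e = 4) := by
  have hp2 : Fact (Nat.Prime 2) := ⟨Nat.prime_two⟩
  have hq3 : 3 ≤ q := by
    have := hq.two_le
    omega
  have hqodd : ¬ 2 ∣ q := by
    intro h
    exact hq2 ((Nat.prime_dvd_prime_iff_eq Nat.prime_two hq).1 h).symm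
  have hqmod : q % 2 = 1 := by omega
  rcases Nat.even_or_odd n with hev | hodd
  · -- `n` even
    obtain ⟨k, hk⟩ := hev
    have hkpos : 0 < k := by omega
    have hn2 : (n + 1) / 2 = k := by omega
    rw [hn2] at h1
    have hne : q ^ n - 1 ≠ 0 := by
      have : 1 < q ^ n := Nat.one_lt_pow hn.ne' (by omega)
      omega
    have hLTE := padicValNat.pow_two_sub_one (x := q) (n := n) (by omega) hqodd hn.ne' ⟨k, hk⟩
    have he : e ≤ padicValNat 2 (q ^ n - 1) := (padicValNat_dvd_iff_le hne).1 h2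
    have hA : 2 ^ padicValNat 2 (q + 1) ∣ q + 1 := pow_padicValNat_dvd
    have hB : 2 ^ padicValNat 2 (q - 1) ∣ q - 1 := pow_padicValNat_dvd
    have hC : 2 ^ padicValNat 2 n ∣ n := pow_padicValNat_dvd
    set A := padicValNat 2 (q + 1) with hAdef
    set B := padicValNat 2 (q - 1) with hBdef
    set C := padicValNat 2 n with hCdef
    have hsum : e + 1 ≤ A + B + C := by omega
    have hpow : 2 ^ (e + 1) ≤ 2 ^ A * 2 ^ B * 2 ^ C := by
      rw [← pow_add, ← pow_add]
      exact Nat.pow_le_pow_right (by norm_num) hsum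
    have hAle : 2 ^ A ≤ q + 1 := Nat.le_of_dvd (by omega) hA
    have hBle : 2 ^ B ≤ q - 1 := Nat.le_of_dvd (by omega) hB
    have hCle : 2 ^ C ≤ n := Nat.le_of_dvd hn hC
    have hqq : (q + 1) * (q - 1) + 1 = q ^ 2 := by
      obtain ⟨r, rfl⟩ : ∃ r, q = r + 1 := ⟨q - 1, by omega⟩
      simp only [Nat.add_sub_cancel]
      ring
    rcases Nat.lt_or_ge k 3 with hk3 | hk3
    · rcases (by omega : k = 1 ∨ k = 2) with rfl | rfl
      · left; omega
      · -- `n = 4`
        right
        have hn4 : n = 4 := by omega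
        have hCle4 : 2 ^ C ≤ 4 := by omega
        -- `q^2 + 1 ≤ 2 * 2^A * 2^B`
        have hkey : q ^ 2 + 1 ≤ 2 * (2 ^ A * 2 ^ B) := by
          have h3 : 2 ^ (e + 1) ≤ 2 ^ A * 2 ^ B * 4 := le_trans hpow (Nat.mul_le_mul_left _ hCle4)
          rw [pow_succ] at h3
          omega
        have hAeq : 2 ^ A = q + 1 := by
          by_contra hne'
          have h4 := two_mul_le_of_dvd_ne hA (by omega) hne'
          have h5 : 2 * (2 ^ A * 2 ^ B) ≤ (q + 1) * (q - 1) := by
            calc 2 * (2 ^ A * 2 ^ B) = (2 * 2 ^ A) * 2 ^ B := by ring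
              _ ≤ (q + 1) * (q - 1) := Nat.mul_le_mul h4 hBle
          omega
        have hBeq : 2 ^ B = q - 1 := by
          by_contra hne'
          have h4 := two_mul_le_of_dvd_ne hB (by omega) hne'
          have h5 : 2 * (2 ^ A * 2 ^ B) ≤ (q + 1) * (q - 1) := by
            calc 2 * (2 ^ A * 2 ^ B) = 2 ^ A * (2 * 2 ^ B) := by ring
              _ ≤ (q + 1) * (q - 1) := Nat.mul_le_mul hAle h4
          omega
        have hB1 : B ≤ 1 := by
          by_contra hB2
          push Not at hB2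
          have hA2 : 2 ≤ A := by
            by_contra hA1
            push Not at hA1
            have : 2 ^ A ≤ 2 ^ 1 := Nat.pow_le_pow_right (by norm_num) (by omega)
            omega
          have d1 : 4 ∣ q - 1 := by
            rw [← hBeq]
            exact pow_dvd_pow 2 hB2
          have d2 : 4 ∣ q + 1 := by
            rw [← hAeq]
            exact pow_dvd_pow 2 hA2
          omega
        have hq3' : q = 3 := by
          have : 2 ^ B ≤ 2 ^ 1 := Nat.pow_le_pow_right (by norm_num) hB1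
          omega
        subst hq3'
        refine ⟨rfl, hn4, ?_⟩
        subst hn4
        have hk2 : (3 : ℕ) ^ 4 - 1 = 80 := by norm_num
        rw [hk2] at h2
        have hle : 2 ^ e ≤ 80 := Nat.le_of_dvd (by norm_num) h2
        have he6 : e < 7 := by
          by_contra h7
          push Not at h7
          have : 2 ^ 7 ≤ 2 ^ e := Nat.pow_le_pow_right (by norm_num) h7
          omega
        interval_cases e <;> omega
    · -- `k ≥ 3`: impossible
      exfalso
      have h3 := mul_sq_le_pow q hq3 k hk3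
      have h4 : 2 ^ (e + 1) ≤ (q + 1) * (q - 1) * n :=
        le_trans hpow (Nat.mul_le_mul (Nat.mul_le_mul hAle hBle) hCle)
      rw [pow_succ] at h4
      have h5 : (q + 1) * (q - 1) * n = 2 * ((q + 1) * (q - 1) * k) := by rw [hk]; ring
      have h6 : (q + 1) * (q - 1) * k < k * q ^ 2 := by
        rw [← hqq]
        nlinarith
      omega
  · -- `n` odd
    exfalso
    have hgeom := geom_sum_mul_add (q - 1) n
    have hq1 : q - 1 + 1 = q := by omega
    rw [hq1] at hgeom
    set s := ∑ i ∈ Finset.range n, q ^ i with hs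
    have hsodd : s % 2 = 1 := by
      rw [hs, geom_mod_two q hqmod n]
      exact Nat.odd_iff.1 hodd
    have hfac : q ^ n - 1 = s * (q - 1) := by omega
    rw [hfac] at h2
    have hcop : Nat.Coprime (2 ^ e) s := by
      apply Nat.Coprime.pow_left
      rw [Nat.coprime_two_left]
      exact Nat.odd_iff.2 hsodd
    have hdvd : 2 ^ e ∣ q - 1 := hcop.dvd_of_dvd_mul_left h2
    have hle : 2 ^ e ≤ q - 1 := Nat.le_of_dvd (by omega) hdvd
    have hpos : 1 ≤ (n + 1) / 2 := by omega
    have : q ^ 1 ≤ q ^ ((n + 1) / 2) := Nat.pow_le_pow_right (by omega) hpos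
    rw [pow_one] at this
    omega

end Cfsg.Agent.Lib.Helper36.QBaer
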