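import Mathlib
import Cfsg.Agent.Lib.Helper75.QBaer.Defs

set_option autoImplicit false

/-!
# S4125-[C7]: the Sylow 2-subgroup acts freely, orbits have size `|S|`
-/

namespace Cfsg.Agent.Lib.Helper36.QBaer

open Cfsg.Agent.Lib.Helper75.QBaer

variable {q : ℕ} {X V : Type*} [Group X] [Finite X] [CommGroup V] [Finite V]
  [MulDistribMulAction X V]

omit [Finite X] [Finite V] in
/-- an element inverted and fixed is trivial (`|V|` odd) -/
theorem eq_one_of_inv_eq (h : CoreHyp q X V) (v : V) (hv : v⁻¹ = v) : v = 1 := by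
  obtain ⟨m, hm⟩ := h.hV v
  have h2 : v ^ 2 = 1 := by
    rw [pow_two]
    nth_rewrite 1 [← hv]
    exact inv_mul_cancel v
  have h3 : orderOf v ∣ 2 := orderOf_dvd_of_pow_eq_one h2
  have h4 : orderOf v ∣ q ^ m := orderOf_dvd_of_pow_eq_one hm
  have hcop : Nat.Coprime 2 (q ^ m) := by
    apply Nat.Coprime.pow_right
    rw [Nat.coprime_primes Nat.prime_two h.hq]
    exact fun e => h.hq2 e.symm
  have h5 : orderOf v = 1 := Nat.eq_one_of_dvd_coprimes hcop h3 h4
  exact orderOf_eq_one_iff.1 h5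

omit [Finite V] in
/-- an element of even order fixes no non-trivial vector -/
theorem eq_one_of_even_order_fix (h : CoreHyp q X V) (z : X)
    (hzinv : ∀ v : V, z • v = v⁻¹) (huniq : ∀ t : X, orderOf t = 2 → t = z)
    (g : X) (hg : 2 ∣ orderOf g) (v : V) (hgv : g • v = v) : v = 1 := by
  have ho : orderOf g ≠ 0 := (orderOf_pos g).ne'
  have h1 : orderOf (g ^ (orderOf g / 2)) = 2 := orderOf_pow_orderOf_div ho hg
  have h2 : g ^ (orderOf g / 2) = z := huniq _ h1
  have h3 : g ^ (orderOf g / 2) ∈ MulAction.stabilizer X v :=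
    Subgroup.pow_mem _ (MulAction.mem_stabilizer_iff.2 hgv) _
  rw [h2, MulAction.mem_stabilizer_iff, hzinv] at h3
  exact eq_one_of_inv_eq h v h3

/-- [C7] -/
theorem sylow_free (h : CoreHyp q X V) (z : X) (hz : orderOf z = 2)
    (hzinv : ∀ v : V, z • v = v⁻¹) (huniq : ∀ t : X, orderOf t = 2 → t = z) (S : Sylow 2 X) :
    (∀ v : V, v ≠ 1 → ∀ s ∈ S, s • v = v → s = 1) ∧
    (∀ v : V, v ≠ 1 → Nat.card (MulAction.orbit X v) = Nat.card S) ∧
    (∀ v : V, ∀ g : X, ∃ s ∈ S, g • v = s • v) := by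
  have h1 : ∀ v : V, v ≠ 1 → ∀ s ∈ S, s • v = v → s = 1 := by
    intro v hv s hs hsv
    obtain ⟨k, hk⟩ := S.isPGroup' ⟨s, hs⟩
    have hk' : s ^ 2 ^ k = 1 := congrArg Subtype.val hk
    have hd : orderOf s ∣ 2 ^ k := orderOf_dvd_of_pow_eq_one hk'
    obtain ⟨j, _, hj⟩ := (Nat.dvd_prime_pow Nat.prime_two).1 hd
    rcases Nat.eq_zero_or_pos j with h0 | hpos
    · rw [h0, pow_zero] at hj
      exact orderOf_eq_one_iff.1 hj
    · exfalso
      apply hv
      apply eq_one_of_even_order_fix h z hzinv huniq s _ v hsv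
      rw [hj]
      exact dvd_pow_self 2 hpos.ne'
  have h3 : ∀ v : V, ∀ g : X, ∃ s ∈ S, g • v = s • v := by
    intro v g
    obtain ⟨s, hs, k, hk, rfl⟩ := exists_mul_sylow_stab h S v g
    refine ⟨s, hs, ?_⟩
    rw [mul_smul, MulAction.mem_stabilizer_iff.1 hk]
  refine ⟨h1, ?_, h3⟩
  intro v hv
  symm
  let φ : ↥(S : Subgroup X) → MulAction.orbit X v := fun s => ⟨(s : X) • v, MulAction.mem_orbit v _⟩
  apply Nat.card_congr (Equiv.ofBijective φ ⟨?_, ?_⟩)
  · intro s t hst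
    have e1 : (s : X) • v = (t : X) • v := congrArg Subtype.val hst
    have e2 : ((t : X)⁻¹ * (s : X)) • v = v := by
      rw [mul_smul, e1, inv_smul_smul]
    have e3 := h1 v hv _ (S.mul_mem (S.inv_mem t.2) s.2) e2
    apply Subtype.ext
    exact (inv_mul_eq_one.1 e3).symm
  · rintro ⟨w, g, rfl⟩
    obtain ⟨s, hs, hgs⟩ := h3 v g
    exact ⟨⟨s, hs⟩, Subtype.ext hgs.symm⟩

end Cfsg.Agent.Lib.Helper36.QBaer
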