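import Mathlib
import Cfsg.Agent.Lib.Helper75.QBaer.Defs

set_option autoImplicit false

/-!
# S4125-[C9]: a subgroup acting freely on `V \ {1}` has order dividing `q^n - 1`
-/

namespace Cfsg.Agent.Lib.Helper36.QBaer

open Cfsg.Agent.Lib.Helper75.QBaer

variable {q : ℕ} {X V : Type*} [Group X] [Finite X] [CommGroup V] [Finite V]
  [MulDistribMulAction X V]

/-- [C9] -/
theorem card_sylow_dvd (S : Subgroup X) (n : ℕ) (hcard : Nat.card V = q ^ n)
    (hfree : ∀ v : V, v ≠ 1 → ∀ s ∈ S, s • v = v → s = 1) :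
    Nat.card S ∣ q ^ n - 1 := by
  classical
  let T := {v : V // v ≠ 1}
  have hne : ∀ (s : X) (v : V), v ≠ 1 → s • v ≠ 1 := by
    intro s v hv h
    apply hv
    have := congrArg (fun w => s⁻¹ • w) h
    simpa using this
  let _ : MulAction ↥S T :=
    { smul := fun s v => ⟨(s : X) • v.1, hne _ _ v.2⟩
      one_smul := fun v => Subtype.ext (one_smul X v.1)
      mul_smul := fun s t v => Subtype.ext (mul_smul (s : X) (t : X) v.1) }
  have hstab : ∀ t : T, MulAction.stabilizer ↥S t = ⊥ := by
    intro t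
    rw [Subgroup.eq_bot_iff_forall]
    intro s hs
    have h1 : (s : X) • t.1 = t.1 := congrArg Subtype.val (MulAction.mem_stabilizer_iff.1 hs)
    exact Subtype.ext (hfree t.1 t.2 s s.2 h1)
  have e := MulAction.selfEquivOrbitsQuotientProd hstab
  have hT : Nat.card T = q ^ n - 1 := by
    have h1 : Nat.card T = Nat.card V - 1 := by
      have h0 : Nat.card (Option T) = Nat.card V := Nat.card_congr (Equiv.optionSubtypeNe (1 : V))
      rw [Finite.card_option] at h0
      omega
    rw [h1, hcard]
  rw [← hT, Nat.card_congr e, Nat.card_prod]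
  exact Dvd.intro_left _ rfl

end Cfsg.Agent.Lib.Helper36.QBaer
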