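import Mathlib
import Cfsg.Agent.Lib.Helper75.QBaer.Defs
import Cfsg.Agent.Lib.Helper84.QBaerW
import Cfsg.Agent.Lib.Helper97.Cores
import Cfsg.Prelude.Def_Solvable

set_option autoImplicit false

/-!
# S4125-[U1], part a: the Sylow `q`-subgroup is `O_q(G)`, hence normal
-/

namespace Cfsg.Agent.Lib.Helper36.QBaer

open Cfsg.Agent.Lib.Helper75.QBaer Cfsg.Agent.Lib.Helper97

variable {G : Type*} [Group G] [Finite G]

/-- a `q`-element lies in `O_q(G)` or centralises it -/
theorem mem_pCore_or_centralizes (q : ℕ) [Fact q.Prime]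
    (hBaer : ∀ x : G, (∃ k : ℕ, orderOf x = q ^ k) → ∃ (r : ℕ) (a : ℕ), r.Prime ∧
      (Subgroup.centralizer ({x} : Set G)).index = r ^ a)
    (u : G) (hu : ∃ k : ℕ, orderOf u = q ^ k) :
    u ∈ Cfsg.pCore q G ∨ Cfsg.pCore q G ≤ Subgroup.centralizer ({u} : Set G) := by
  have hq : q.Prime := Fact.out
  obtain ⟨r, b, hr, hb⟩ := hBaer u hu
  by_cases hrq : r = q
  · left
    subst hrq
    exact Cfsg.Agent.Lib.Helper84.QBaer.mem_pCore_of_index_pow r u hu ⟨b, hb⟩
  · right
    have hnd : ¬ q ∣ (Subgroup.centralizer ({u} : Set G)).index := by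
      rw [hb]
      intro h
      have := (Nat.prime_dvd_prime_iff_eq hq hr).1 (hq.dvd_of_dvd_pow h)
      exact hrq this.symm
    obtain ⟨S, hS⟩ := Cfsg.Agent.Lib.Helper76.exists_sylow_le_of_not_dvd_index q _ hnd
    exact le_trans (pCore_le_sylow' S) hS

/-- [U1a] every Sylow `q`-subgroup equals `O_q(G)` -/
theorem sylow_eq_pCore (q : ℕ) [Fact q.Prime]
    (hBaer : ∀ x : G, (∃ k : ℕ, orderOf x = q ^ k) → ∃ (r : ℕ) (a : ℕ), r.Prime ∧
      (Subgroup.centralizer ({x} : Set G)).index = r ^ a)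
    (x : G) (hx : ∃ k : ℕ, orderOf x = q ^ k) (a : ℕ) (ha : 0 < a)
    (hxa : (Subgroup.centralizer ({x} : Set G)).index = q ^ a) (Q : Sylow q G) :
    (Q : Subgroup G) = Cfsg.pCore q G := by
  have hq : q.Prime := Fact.out
  have hNQ : Cfsg.pCore q G ≤ (Q : Subgroup G) := pCore_le_sylow' Q
  have hxN : x ∈ Cfsg.pCore q G :=
    Cfsg.Agent.Lib.Helper84.QBaer.mem_pCore_of_index_pow q x hx ⟨a, hxa⟩
  have hqel : ∀ u ∈ (Q : Subgroup G), ∃ k : ℕ, orderOf u = q ^ k := by
    intro u hu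
    obtain ⟨k, hk⟩ := Q.isPGroup' ⟨u, hu⟩
    have hk' : u ^ q ^ k = 1 := congrArg Subtype.val hk
    obtain ⟨j, _, hj⟩ := (Nat.dvd_prime_pow hq).1 (orderOf_dvd_of_pow_eq_one hk')
    exact ⟨j, hj⟩
  apply le_antisymm _ hNQ
  by_contra hnot
  obtain ⟨u, huQ, huN⟩ := SetLike.not_le_iff_exists.1 hnot
  -- every element of `Q` centralises `O_q(G)`
  have hall : ∀ v ∈ (Q : Subgroup G), Cfsg.pCore q G ≤ Subgroup.centralizer ({v} : Set G) := by
    intro v hv
    by_contra hvc
    have hvN : v ∈ Cfsg.pCore q G :=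
      (mem_pCore_or_centralizes q hBaer v (hqel v hv)).resolve_right hvc
    have huC : Cfsg.pCore q G ≤ Subgroup.centralizer ({u} : Set G) :=
      (mem_pCore_or_centralizes q hBaer u (hqel u huQ)).resolve_left huN
    have huv : u * v ∈ (Q : Subgroup G) := Q.mul_mem huQ hv
    rcases mem_pCore_or_centralizes q hBaer (u * v) (hqel _ huv) with h1 | h1
    · apply huN
      have := (Cfsg.pCore q G).mul_mem h1 ((Cfsg.pCore q G).inv_mem hvN)
      rwa [mul_inv_cancel_right] at this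
    · apply hvc
      intro n hn
      have e1 := huC hn
      have e2 := h1 hn
      rw [Subgroup.mem_centralizer_iff] at e1 e2 ⊢
      intro w hw
      rw [Set.mem_singleton_iff] at hw
      subst hw
      have e1' := e1 u rfl
      have e2' := e2 (u * w) rfl
      -- e1' : u * n = n * u ; e2' : u * w * n = n * (u * w)
      have : u * (w * n) = u * (n * w) := by
        rw [← mul_assoc, e2', ← mul_assoc, ← e1', mul_assoc]
      exact mul_left_cancel this
  -- hence `Q ≤ C(x)`, contradicting `q ∣ |G : C(x)|`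
  have hQC : (Q : Subgroup G) ≤ Subgroup.centralizer ({x} : Set G) := by
    intro v hv
    have h1 := hall v hv hxN
    rw [Subgroup.mem_centralizer_iff] at h1 ⊢
    intro w hw
    rw [Set.mem_singleton_iff] at hw
    subst hw
    exact (h1 v rfl).symm
  have hdvd := Subgroup.index_dvd_of_le hQC
  rw [hxa] at hdvd
  exact Q.not_dvd_index (dvd_trans (dvd_pow_self q ha.ne') hdvd)

end Cfsg.Agent.Lib.Helper36.QBaer
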