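import Mathlib
import Cfsg.Agent.S0001
import Cfsg.Agent.S4126

set_option autoImplicit false

/-!
# S4125-[U1], part b: an element of `q`-power index is `N`-conjugate into `C(H)`
-/

namespace Cfsg.Agent.Lib.Helper36.QBaer

open scoped Pointwise

variable {G : Type*} [Group G] [Finite G]

/-- [U1b] `N` a normal Sylow `q`-subgroup with complement `H`; if `|G : C(u)|` is a power of `q`
then some `N`-conjugate of `u` is centralised by `H`. -/
theorem exists_conj_centralized (q : ℕ) [Fact q.Prime] (N : Subgroup G) [N.Normal]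
    (hNp : IsPGroup q N) (hNidx : ¬ q ∣ N.index) (H : Subgroup G)
    (hH : Subgroup.IsComplement' N H)
    (u : G) (c : ℕ) (hidx : (Subgroup.centralizer ({u} : Set G)).index = q ^ c) :
    ∃ n ∈ N, ∀ h ∈ H, h * (n⁻¹ * u * n) = (n⁻¹ * u * n) * h := by
  have hq : q.Prime := Fact.out
  set C := Subgroup.centralizer ({u} : Set G) with hC
  obtain ⟨m, hm⟩ := IsPGroup.iff_card.1 hNp
  have hqN : q.Coprime N.index := (Nat.Prime.coprime_iff_not_dvd hq).2 hNidx
  have hcopN : (Nat.card N).Coprime N.index := by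
    rw [hm]; exact Nat.Coprime.pow_left _ hqN
  have hcopCN : C.index.Coprime N.index := by
    rw [hidx]; exact Nat.Coprime.pow_left _ hqN
  -- a complement of `N ∩ C` in `C`
  have hN'cop : (Nat.card (N.subgroupOf C)).Coprime (N.subgroupOf C).index := by
    have h1 : IsPGroup q (N.subgroupOf C) := hNp.comap_subtype
    obtain ⟨m', hm'⟩ := IsPGroup.iff_card.1 h1
    rw [hm']
    apply Nat.Coprime.pow_left
    have h2 : (N.subgroupOf C).index ∣ N.index := Subgroup.relIndex_dvd_index_of_normal N C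
    exact Nat.Coprime.coprime_dvd_right h2 hqN
  obtain ⟨K', hK'⟩ := Subgroup.exists_right_complement'_of_coprime hN'cop
  set H₁ : Subgroup G := K'.map C.subtype with hH₁
  have hH₁C : H₁ ≤ C := Subgroup.map_subtype_le K'
  have hcompl : Subgroup.IsComplement' N H₁ := by
    apply Subgroup.isComplement'_of_disjoint_and_mul_eq_univ
    · rw [Subgroup.disjoint_def]
      rintro z hzN ⟨k, hk, rfl⟩
      have h1 : k ∈ N.subgroupOf C := Subgroup.mem_subgroupOf.2 hzN
      have h2 : k = 1 := Subgroup.disjoint_def.1 hK'.disjoint h1 hk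
      rw [h2]; rfl
    · rw [Set.eq_univ_iff_forall]
      intro g
      obtain ⟨c₀, hc₀, n, hn, rfl⟩ := Cfsg.Agent.S4126.exists_mul_of_coprime_index C N hcopCN g
      obtain ⟨⟨⟨n', hn'⟩, ⟨k', hk'⟩⟩, hnk⟩ := hK'.2 ⟨c₀, hc₀⟩
      have hnk' : (n' : G) * (k' : G) = c₀ := congrArg Subtype.val hnk
      refine ⟨(n' : G) * ((k' : G) * n * (k' : G)⁻¹), ?_, (k' : G), ?_, ?_⟩
      · exact N.mul_mem (Subgroup.mem_subgroupOf.1 hn') (Subgroup.Normal.conj_mem inferInstance n hn _)
      · exact ⟨k', hk', rfl⟩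
      · show (n' : G) * ((k' : G) * n * (k' : G)⁻¹) * (k' : G) = c₀ * n
        rw [← hnk']
        group
  -- conjugacy
  have hsolv : Group.IsSolvable N := by
    haveI := hNp.isNilpotent
    infer_instance
  obtain ⟨g, hg⟩ := Cfsg.Agent.S0001.result N hcopN (Or.inl hsolv) H H₁ hH hcompl
  obtain ⟨⟨⟨n, hn⟩, ⟨h', hh'⟩⟩, hnh⟩ := hH.2 g
  have hnh' : n * h' = g := hnh
  refine ⟨n, hn, ?_⟩
  intro h hh
  -- `n h n⁻¹ ∈ H₁ ≤ C`
  have h1 : n * h * n⁻¹ ∈ C := by
    apply hH₁C
    rw [← hg]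
    have h2 : h'⁻¹ * h * h' ∈ H := H.mul_mem (H.mul_mem (H.inv_mem hh') hh) hh'
    have h3 := Subgroup.smul_mem_pointwise_smul _ (MulAut.conj g) H h2
    have h4 : MulAut.conj g • (h'⁻¹ * h * h') = n * h * n⁻¹ := by
      rw [MulAut.smul_def, MulAut.conj_apply, ← hnh']
      group
    rwa [h4] at h3
  rw [hC, Subgroup.mem_centralizer_iff] at h1
  have h5 := h1 u rfl
  -- h5 : u * (n * h * n⁻¹) = n * h * n⁻¹ * u
  calc h * (n⁻¹ * u * n) = n⁻¹ * (n * h * n⁻¹ * u) * n := by group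
    _ = n⁻¹ * (u * (n * h * n⁻¹)) * n := by rw [h5]
    _ = (n⁻¹ * u * n) * h := by group

end Cfsg.Agent.Lib.Helper36.QBaer
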