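import Mathlib
import Cfsg.Agent.Lib.Helper36.QBaer.U1a
import Cfsg.Agent.Lib.Helper36.QBaer.U1b

set_option autoImplicit false

/-!
# S4125-[U1]: a `q`-element of index `q^a > 1` forces all `q`-elements to have `q`-power index
-/

namespace Cfsg.Agent.Lib.Helper36.QBaer

open Cfsg.Agent.Lib.Helper75.QBaer Cfsg.Agent.Lib.Helper97

/-- **Jordan's lemma** (copy of helper80's proof, to keep imports light): a finite group is not the
union of the conjugates of a proper subgroup. -/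
theorem eq_top_of_forall_exists_conj_mem' {M : Type*} [Group M] [Finite M] (D : Subgroup M)
    (h : ∀ m : M, ∃ k : M, k * m * k⁻¹ ∈ D) : D = ⊤ := by
  classical
  let f : (M ⧸ D) × D → M := fun x => x.1.out * (x.2 : M) * (x.1.out)⁻¹
  have hsurj : Function.Surjective f := by
    intro m
    obtain ⟨k, hk⟩ := h m
    obtain ⟨d', hd'⟩ := QuotientGroup.mk_out_eq_mul D k⁻¹
    refine ⟨(((k⁻¹ : M) : M ⧸ D), (⟨(d' : M)⁻¹ * (k * m * k⁻¹) * d',
      D.mul_mem (D.mul_mem (D.inv_mem d'.2) hk) d'.2⟩ : D)), ?_⟩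
    change ((k⁻¹ : M) : M ⧸ D).out * ((d' : M)⁻¹ * (k * m * k⁻¹) * d') *
      (((k⁻¹ : M) : M ⧸ D).out)⁻¹ = m
    rw [hd']
    group
  have hcard : Nat.card ((M ⧸ D) × D) ≤ Nat.card M := by
    rw [Nat.card_prod, ← Subgroup.index_eq_card, Subgroup.index_mul_card]
  have hbij := hsurj.bijective_of_nat_card_le hcard
  rw [eq_top_iff]
  intro m _
  have h1 : f (((m : M) : M ⧸ D), 1) = f (((1 : M) : M ⧸ D), 1) := by
    simp [f]
  have h2 := hbij.1 h1
  have h3 : ((m : M) : M ⧸ D) = ((1 : M) : M ⧸ D) := congrArg Prod.fst h2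
  rw [QuotientGroup.eq] at h3
  simpa using h3

variable {G : Type*} [Group G] [Finite G]

/-- [U1c] abstract form: `N` a normal Sylow `q`-subgroup with complement `H`, every element of
`N` outside `Z(N)` is `N`-conjugate into `C(H)`, and `N` is not abelian: then `H` centralises `N`. -/
theorem complement_centralizes (N : Subgroup G) (H : Subgroup G)
    (hconj : ∀ u ∈ N, (∃ n' ∈ N, n' * u ≠ u * n') →
      ∃ n ∈ N, ∀ h ∈ H, h * (n⁻¹ * u * n) = (n⁻¹ * u * n) * h)
    (hnab : ∃ x ∈ N, ∃ n' ∈ N, n' * x ≠ x * n') :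
    ∀ u ∈ N, ∀ h ∈ H, h * u = u * h := by
  classical
  set CH : Subgroup ↥N := (Subgroup.centralizer (H : Set G)).subgroupOf N with hCH
  set Z : Subgroup ↥N := Subgroup.center ↥N with hZ
  have hmemCH : ∀ m : ↥N, m ∈ CH ↔ ∀ h ∈ H, h * (m : G) = (m : G) * h := by
    intro m
    rw [hCH, Subgroup.mem_subgroupOf, Subgroup.mem_centralizer_iff]
    rfl
  have hnotZ : ∀ m : ↥N, m ∉ Z → ∃ n' ∈ N, n' * (m : G) ≠ (m : G) * n' := by
    intro m hm
    rw [hZ, Subgroup.mem_center_iff] at hm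
    push Not at hm
    obtain ⟨g, hg⟩ := hm
    exact ⟨g, g.2, fun e => hg (Subtype.ext e)⟩
  -- conjugation into `CH` for non-central elements
  have hconj' : ∀ m : ↥N, m ∉ Z → ∃ k : ↥N, k⁻¹ * m * k ∈ CH := by
    intro m hm
    obtain ⟨n, hn, hnh⟩ := hconj m m.2 (hnotZ m hm)
    refine ⟨⟨n, hn⟩, ?_⟩
    rw [hmemCH]
    exact hnh
  -- Jordan
  have hD : CH ⊔ Z = ⊤ := by
    apply eq_top_of_forall_exists_conj_mem'
    intro m
    by_cases hm : m ∈ Z
    · exact ⟨1, by simpa using Subgroup.mem_sup_right hm⟩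
    · obtain ⟨k, hk⟩ := hconj' m hm
      exact ⟨k⁻¹, by rw [inv_inv]; exact Subgroup.mem_sup_left hk⟩
  -- a non-central element of `CH`
  have hx' : ∃ x' ∈ CH, x' ∉ Z := by
    by_contra hno
    push Not at hno
    have hle : CH ≤ Z := hno
    have hZtop : Z = ⊤ := by rw [← hD]; exact (sup_eq_right.2 hle).symm
    obtain ⟨x, hxN, n', hn', hne⟩ := hnab
    have : (⟨x, hxN⟩ : ↥N) ∈ Z := by rw [hZtop]; exact Subgroup.mem_top _
    rw [hZ, Subgroup.mem_center_iff] at this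
    exact hne (congrArg Subtype.val (this ⟨n', hn'⟩))
  obtain ⟨x', hx'C, hx'Z⟩ := hx'
  -- `Z ≤ CH`
  have hZle : Z ≤ CH := by
    intro y hy
    have hy' : ∀ g : ↥N, g * y = y * g := by
      rw [hZ, Subgroup.mem_center_iff] at hy
      exact hy
    have hxy : x' * y ∉ Z := by
      intro h
      apply hx'Z
      have := Z.mul_mem h (Z.inv_mem hy)
      rwa [mul_inv_cancel_right] at this
    obtain ⟨k, hk⟩ := hconj' (x' * y) hxy
    have hkD : k ∈ CH ⊔ Z := by rw [hD]; exact Subgroup.mem_top _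
    have hkD' : (k : ↥N) ∈ ((CH ⊔ Z : Subgroup ↥N) : Set ↥N) := hkD
    rw [Subgroup.mul_normal CH Z] at hkD'
    obtain ⟨c, hc, z, hz, rfl⟩ := Set.mem_mul.1 hkD'
    have hz' : ∀ g : ↥N, g * z = z * g := by
      have hz2 : z ∈ Subgroup.center ↥N := hz
      rw [Subgroup.mem_center_iff] at hz2
      exact hz2
    have hc : c ∈ CH := hc
    -- `(c z)⁻¹ (x' y) (c z) = (c⁻¹ x' c) y`
    have e1 : (c * z)⁻¹ * (x' * y) * (c * z) = (c⁻¹ * x' * c) * y := by
      have a1 : (c * z)⁻¹ * (x' * y) * (c * z) = z⁻¹ * (c⁻¹ * x' * (y * c)) * z := by group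
      rw [a1, ← hy' c]
      have a2 : z⁻¹ * (c⁻¹ * x' * (c * y)) * z = z⁻¹ * ((c⁻¹ * x' * c * y) * z) := by group
      rw [a2, hz' (c⁻¹ * x' * c * y)]
      group
    rw [e1] at hk
    have hcx : c⁻¹ * x' * c ∈ CH := CH.mul_mem (CH.mul_mem (CH.inv_mem hc) hx'C) hc
    have := CH.mul_mem (CH.inv_mem hcx) hk
    rwa [inv_mul_cancel_left] at this
  have hCHtop : CH = ⊤ := by rw [← hD]; exact (sup_eq_left.2 hZle).symm
  intro u hu h hh
  have : (⟨u, hu⟩ : ↥N) ∈ CH := by rw [hCHtop]; exact Subgroup.mem_top _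
  exact (hmemCH _).1 this h hh

/-- [U1] -/
theorem all_q_of_exists_q (q : ℕ) [Fact q.Prime]
    (hBaer : ∀ x : G, (∃ k : ℕ, orderOf x = q ^ k) → ∃ (r : ℕ) (a : ℕ), r.Prime ∧
      (Subgroup.centralizer ({x} : Set G)).index = r ^ a)
    (x : G) (hx : ∃ k : ℕ, orderOf x = q ^ k) (a : ℕ) (ha : 0 < a)
    (hxa : (Subgroup.centralizer ({x} : Set G)).index = q ^ a)
    (y : G) (hy : ∃ k : ℕ, orderOf y = q ^ k) :
    ∃ b : ℕ, (Subgroup.centralizer ({y} : Set G)).index = q ^ b := by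
  have hq : q.Prime := Fact.out
  set N := Cfsg.pCore q G with hN
  have hSyl : ∀ Q : Sylow q G, (Q : Subgroup G) = N := sylow_eq_pCore q hBaer x hx a ha hxa
  have hNp : IsPGroup q N := isPGroup_pCore q G
  have hNidx : ¬ q ∣ N.index := by
    have Q : Sylow q G := default
    rw [← hSyl Q]
    exact Q.not_dvd_index
  -- every `q`-element lies in `N`
  have hqN : ∀ u : G, (∃ k : ℕ, orderOf u = q ^ k) → u ∈ N := by
    intro u hu
    have hup : IsPGroup q (Subgroup.zpowers u) := by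
      obtain ⟨k, hk⟩ := hu
      rw [IsPGroup.iff_card, Nat.card_zpowers]
      exact ⟨k, hk⟩
    obtain ⟨Q, hQ⟩ := hup.exists_le_sylow
    rw [← hSyl Q]
    exact hQ (Subgroup.mem_zpowers u)
  have hNq : ∀ u ∈ N, ∃ k : ℕ, orderOf u = q ^ k := by
    intro u hu
    obtain ⟨k, hk⟩ := hNp ⟨u, hu⟩
    have hk' : u ^ q ^ k = 1 := congrArg Subtype.val hk
    obtain ⟨j, _, hj⟩ := (Nat.dvd_prime_pow hq).1 (orderOf_dvd_of_pow_eq_one hk')
    exact ⟨j, hj⟩
  obtain ⟨m, hm⟩ := IsPGroup.iff_card.1 hNp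
  have hcopN : (Nat.card N).Coprime N.index := by
    rw [hm]; exact Nat.Coprime.pow_left _ ((Nat.Prime.coprime_iff_not_dvd hq).2 hNidx)
  obtain ⟨H, hH⟩ := Subgroup.exists_right_complement'_of_coprime hcopN
  -- non-central elements of `N` have `q`-power index
  have hconj : ∀ u ∈ N, (∃ n' ∈ N, n' * u ≠ u * n') →
      ∃ n ∈ N, ∀ h ∈ H, h * (n⁻¹ * u * n) = (n⁻¹ * u * n) * h := by
    intro u hu ⟨n', hn', hne⟩
    obtain ⟨r, b, hr, hb⟩ := hBaer u (hNq u hu)
    by_cases hrq : r = q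
    · subst hrq
      exact exists_conj_centralized r N hNp hNidx H hH u b hb
    · exfalso
      have hnd : ¬ q ∣ (Subgroup.centralizer ({u} : Set G)).index := by
        rw [hb]
        intro h
        have := (Nat.prime_dvd_prime_iff_eq hq hr).1 (hq.dvd_of_dvd_pow h)
        exact hrq this.symm
      obtain ⟨S, hS⟩ := Cfsg.Agent.Lib.Helper76.exists_sylow_le_of_not_dvd_index q _ hnd
      rw [hSyl S] at hS
      have := hS hn'
      rw [Subgroup.mem_centralizer_iff] at this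
      exact hne (this u rfl).symm
  have hnab : ∃ x ∈ N, ∃ n' ∈ N, n' * x ≠ x * n' := by
    refine ⟨x, hqN x hx, ?_⟩
    by_contra hno
    push Not at hno
    have hNC : N ≤ Subgroup.centralizer ({x} : Set G) := by
      intro n hn
      rw [Subgroup.mem_centralizer_iff]
      intro w hw
      rw [Set.mem_singleton_iff] at hw
      subst hw
      exact (hno n hn).symm
    have hdvd := Subgroup.index_dvd_of_le hNC
    rw [hxa] at hdvd
    exact hNidx (dvd_trans (dvd_pow_self q ha.ne') hdvd)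
  have hcent := complement_centralizes N H hconj hnab
  -- conclusion
  have hyN : y ∈ N := hqN y hy
  have hHC : H ≤ Subgroup.centralizer ({y} : Set G) := by
    intro h hh
    rw [Subgroup.mem_centralizer_iff]
    intro w hw
    rw [Set.mem_singleton_iff] at hw
    subst hw
    exact (hcent w hyN h hh).symm
  have hdvd := Subgroup.index_dvd_of_le hHC
  rw [hH.index_eq_card, hm] at hdvd
  obtain ⟨b, _, hb⟩ := (Nat.dvd_prime_pow hq).1 hdvd
  exact ⟨b, hb⟩

end Cfsg.Agent.Lib.Helper36.QBaer
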